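import Mathlib

/-!
Order vectors: exponents of `2`, `3`, `A`, `B`, `a`, `b`, the six maximal element orders of a small
Ree group, and the finite checks for the witness group.
-/

set_option autoImplicit false

namespace Cfsg.Agent.Lib.ReeCube

/-- Exponents of 2, 3, A, B, a, b. -/
structure Vec where
  t : ℕ
  h : ℕ
  A : ℕ
  B : ℕ
  a : ℕ
  b : ℕ
deriving DecidableEq

namespace Vec

/-- componentwise maximum -/
def sup (u w : Vec) : Vec :=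
  ⟨max u.t w.t, max u.h w.h, max u.A w.A, max u.B w.B, max u.a w.a, max u.b w.b⟩

/-- componentwise order -/
def le (u w : Vec) : Bool :=
  decide (u.t ≤ w.t) && decide (u.h ≤ w.h) && decide (u.A ≤ w.A) && decide (u.B ≤ w.B) &&
    decide (u.a ≤ w.a) && decide (u.b ≤ w.b)

/-- the zero vector -/
def zero : Vec := ⟨0, 0, 0, 0, 0, 0⟩

end Vec

/-- The parameters `A = (q-1)/2`, `B = (q+1)/4` and the two factors of `q^2-q+1`. -/
structure Params where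
  A : ℕ
  B : ℕ
  a : ℕ
  b : ℕ
  hA : 3 ≤ A
  hB : 3 ≤ B
  ha : 3 ≤ a
  hb : 3 ≤ b
  cAB : A.Coprime B
  cAa : A.Coprime a
  cAb : A.Coprime b
  cBa : B.Coprime a
  cBb : B.Coprime b
  cab : a.Coprime b
  c2A : Nat.Coprime 2 A
  c2B : Nat.Coprime 2 B
  c2a : Nat.Coprime 2 a
  c2b : Nat.Coprime 2 b
  c3A : Nat.Coprime 3 A
  c3B : Nat.Coprime 3 B
  c3a : Nat.Coprime 3 a
  c3b : Nat.Coprime 3 b

variable (P : Params)

/-- value of a vector -/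
def Params.val (u : Vec) : ℕ := 2 ^ u.t * 3 ^ u.h * P.A ^ u.A * P.B ^ u.B * P.a ^ u.a * P.b ^ u.b

theorem Params.val_mono {u w : Vec} (h : u.le w = true) : P.val u ∣ P.val w := by
  simp only [Vec.le, Bool.and_eq_true, decide_eq_true_eq] at h
  obtain ⟨⟨⟨⟨⟨h1, h2⟩, h3⟩, h4⟩, h5⟩, h6⟩ := h
  unfold Params.val
  exact mul_dvd_mul (mul_dvd_mul (mul_dvd_mul (mul_dvd_mul (mul_dvd_mul (pow_dvd_pow _ h1) (pow_dvd_pow _ h2))
    (pow_dvd_pow _ h3)) (pow_dvd_pow _ h4)) (pow_dvd_pow _ h5)) (pow_dvd_pow _ h6)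

theorem Vec.le_sup_left (u w : Vec) : u.le (u.sup w) = true := by simp [Vec.le, Vec.sup]
theorem Vec.le_sup_right (u w : Vec) : w.le (u.sup w) = true := by simp [Vec.le, Vec.sup]

theorem Vec.le_trans' {u v w : Vec} (h1 : u.le v = true) (h2 : v.le w = true) : u.le w = true := by
  simp only [Vec.le, Bool.and_eq_true, decide_eq_true_eq] at h1 h2 ⊢
  omega

theorem Params.lcm_val (u w : Vec) : Nat.lcm (P.val u) (P.val w) = P.val (u.sup w) := by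
  refine Nat.dvd_antisymm (Nat.lcm_dvd (P.val_mono (Vec.le_sup_left u w)) (P.val_mono (Vec.le_sup_right u w))) ?_
  have key : ∀ (x i j : ℕ) (y z : ℕ), x ^ i ∣ y → x ^ j ∣ z → x ^ max i j ∣ Nat.lcm y z := by
    intro x i j y z h1 h2
    rcases max_choice i j with e | e <;> rw [e]
    · exact h1.trans (Nat.dvd_lcm_left _ _)
    · exact h2.trans (Nat.dvd_lcm_right _ _)
  have d1 : ∀ v : Vec, 2 ^ v.t ∣ P.val v := fun v => ⟨3 ^ v.h * P.A ^ v.A * P.B ^ v.B * P.a ^ v.a * P.b ^ v.b, by unfold Params.val; ring⟩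
  have d2 : ∀ v : Vec, 3 ^ v.h ∣ P.val v := fun v => ⟨2 ^ v.t * P.A ^ v.A * P.B ^ v.B * P.a ^ v.a * P.b ^ v.b, by unfold Params.val; ring⟩
  have d3 : ∀ v : Vec, P.A ^ v.A ∣ P.val v := fun v => ⟨2 ^ v.t * 3 ^ v.h * P.B ^ v.B * P.a ^ v.a * P.b ^ v.b, by unfold Params.val; ring⟩
  have d4 : ∀ v : Vec, P.B ^ v.B ∣ P.val v := fun v => ⟨2 ^ v.t * 3 ^ v.h * P.A ^ v.A * P.a ^ v.a * P.b ^ v.b, by unfold Params.val; ring⟩
  have d5 : ∀ v : Vec, P.a ^ v.a ∣ P.val v := fun v => ⟨2 ^ v.t * 3 ^ v.h * P.A ^ v.A * P.B ^ v.B * P.b ^ v.b, by unfold Params.val; ring⟩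
  have d6 : ∀ v : Vec, P.b ^ v.b ∣ P.val v := fun v => ⟨2 ^ v.t * 3 ^ v.h * P.A ^ v.A * P.B ^ v.B * P.a ^ v.a, by unfold Params.val; ring⟩
  have c23 : Nat.Coprime 2 3 := by decide
  refine Nat.Coprime.mul_dvd_of_dvd_of_dvd ?_
    (Nat.Coprime.mul_dvd_of_dvd_of_dvd ?_
      (Nat.Coprime.mul_dvd_of_dvd_of_dvd ?_
        (Nat.Coprime.mul_dvd_of_dvd_of_dvd ?_
          (Nat.Coprime.mul_dvd_of_dvd_of_dvd ?_ (key 2 _ _ _ _ (d1 u) (d1 w)) (key 3 _ _ _ _ (d2 u) (d2 w)))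
          (key _ _ _ _ _ (d3 u) (d3 w))) (key _ _ _ _ _ (d4 u) (d4 w))) (key _ _ _ _ _ (d5 u) (d5 w)))
    (key _ _ _ _ _ (d6 u) (d6 w))
  · simp only [Nat.coprime_mul_iff_left]
    exact ⟨⟨⟨⟨P.c2b.pow _ _, P.c3b.pow _ _⟩, P.cAb.pow _ _⟩, P.cBb.pow _ _⟩, P.cab.pow _ _⟩
  · simp only [Nat.coprime_mul_iff_left]
    exact ⟨⟨⟨P.c2a.pow _ _, P.c3a.pow _ _⟩, P.cAa.pow _ _⟩, P.cBa.pow _ _⟩
  · simp only [Nat.coprime_mul_iff_left]
    exact ⟨⟨P.c2B.pow _ _, P.c3B.pow _ _⟩, P.cAB.pow _ _⟩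
  · simp only [Nat.coprime_mul_iff_left]
    exact ⟨P.c2A.pow _ _, P.c3A.pow _ _⟩
  · exact c23.pow _ _

/-- The six maximal orders `6, 9, 2A, 2B, a, b`. -/
def tops : List Vec :=
  [⟨1, 1, 0, 0, 0, 0⟩, ⟨0, 2, 0, 0, 0, 0⟩, ⟨1, 0, 1, 0, 0, 0⟩, ⟨1, 0, 0, 1, 0, 0⟩, ⟨0, 0, 0, 0, 1, 0⟩,
    ⟨0, 0, 0, 0, 0, 1⟩]

/-- suprema of three maximal orders -/
def triples : List Vec :=
  tops.flatMap fun x => tops.flatMap fun y => tops.map fun z => x.sup (y.sup z)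

/-- the set of element orders of the cube -/
def Params.cube : Set ℕ := {m | ∃ u ∈ triples, m ∣ P.val u}

/-- The summands: exponent vector of the module and the lines killed in the three parts of the acting group. -/
def comps : List (Vec × Fin 3 × Fin 3 × Fin 3) :=
  let X : Vec := ⟨0, 2, 0, 0, 0, 0⟩
  let Y : Vec := ⟨0, 0, 0, 0, 1, 0⟩
  let Z : Vec := ⟨0, 0, 0, 0, 0, 1⟩
  [(X, 0, 0, 1), (X, 0, 0, 2), (X, 2, 2, 1), (X, 2, 2, 2),
    (Y, 0, 1, 0), (Y, 0, 1, 2), (Y, 1, 2, 0), (Y, 1, 2, 2),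
    (Z, 1, 1, 0), (Z, 1, 1, 1), (Z, 2, 0, 0), (Z, 2, 0, 1),
    (⟨0, 1, 0, 0, 0, 0⟩, 0, 0, 0)]

/-- Whether the `i`-th functional vanishes on a vector of pattern `p`
(`0`: zero, `i+1`: non-zero in the `i`-th line, `4`: other). -/
def kills (i : Fin 3) (p : Fin 5) : Bool := decide (p.val = 0 ∨ p.val = i.val + 1)

/-- order vector of the acting element -/
def baseVec (p q r : Fin 5) : Vec :=
  ⟨if r = 0 then 0 else 1, 0, if p = 0 then 0 else 1, if q = 0 then 0 else 1, 0, 0⟩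

/-- exponents of the summands fixed by an element of given patterns -/
def fixVec (p q r : Fin 5) : Vec :=
  ((comps.filter fun k => kills k.2.1 p && kills k.2.2.1 q && kills k.2.2.2 r).map Prod.fst).foldr Vec.sup Vec.zero

/-- the largest order with given patterns -/
def fullVec (p q r : Fin 5) : Vec := (baseVec p q r).sup (fixVec p q r)

theorem upper_check : ∀ p q r : Fin 5, ∃ u ∈ triples, (fullVec p q r).le u = true := by decide +kernel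

theorem lower_check : ∀ u ∈ triples, ∃ p q r : Fin 5, p ≠ 4 ∧ q ≠ 4 ∧ r ≠ 4 ∧ u.le (fullVec p q r) = true := by
  decide +kernel

end Cfsg.Agent.Lib.ReeCube
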