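import Cfsg.Agent.Lib.Ree.Main
import Cfsg.Agent.Lib.ReeCube.Vec
import Cfsg.Agent.Lib.ReeTori.Phi

/-!
The element orders of the cube of a small Ree group.
-/

set_option autoImplicit false
set_option linter.unusedSectionVars false

namespace Cfsg.Agent.Lib.ReeCube

open Cfsg.Agent.Lib.Ree

theorem coprime_of_no_prime {x y : ℕ} (h : ∀ p : ℕ, p.Prime → p ∣ x → p ∣ y → False) : x.Coprime y :=
  Nat.coprime_of_dvd fun p hp hx hy => h p hp hx hy

/-- The parameters of the small Ree group over the field of `3^(2m+1)` elements. -/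
theorem exists_params {m : ℕ} (hm : 1 ≤ m) :
    ∃ P : Params, 2 * P.A = qq m - 1 ∧ 2 * P.B = (qq m + 1) / 2 ∧
      P.a = qq m - 3 ^ (m + 1) + 1 ∧ P.b = qq m + 3 ^ (m + 1) + 1 := by
  obtain ⟨k, hk, hk'⟩ := half_qq_odd m
  obtain ⟨l, hl, hl', -⟩ := quarter_qq_odd m
  obtain ⟨he, hcop⟩ := Cfsg.Agent.Lib.ReeTori.tT_split m
  obtain ⟨hA3, hB3⟩ := not_three_dvd_qq_pm m
  have h27 := qq_ge27 hm
  have hr3 : 9 ≤ 3 ^ (m + 1) :=
    le_trans (by norm_num) (Nat.pow_le_pow_right (by norm_num : 0 < 3) (show 2 ≤ m + 1 by omega))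
  have hle : 3 * 3 ^ (m + 1) ≤ qq m := by
    rw [← pow_succ']
    exact Nat.pow_le_pow_right (by norm_num) (by omega)
  have hT2 : ¬ 2 ∣ tT m := fun h => (Nat.not_even_iff_odd.2 (tT_odd m)) (even_iff_two_dvd.2 h)
  have hT3 := not_three_dvd_tT m
  have hA : ∀ {d}, d ∣ 2 * k + 1 → d ∣ qq m - 1 := fun h => h.trans (hk ▸ dvd_mul_left _ _)
  have hB : ∀ {d}, d ∣ 2 * l + 1 → d ∣ qq m + 1 := fun h => h.trans (hl ▸ dvd_mul_left _ _)
  have h2A : ¬ 2 ∣ 2 * k + 1 := by omega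
  have h2B : ¬ 2 ∣ 2 * l + 1 := by omega
  generalize qq m - 3 ^ (m + 1) + 1 = a at *
  have ha : a ∣ tT m := he ▸ dvd_mul_right _ _
  have hb : qq m + 3 ^ (m + 1) + 1 ∣ tT m := he ▸ dvd_mul_left _ _
  have ha3 : 3 ≤ a := by
    by_contra hcon
    have hpos : 0 < tT m := (tT_odd m).pos
    have : a = 1 := by
      rcases Nat.eq_zero_or_pos a with h | h
      · rw [h, zero_mul] at he; omega
      · by_contra h1
        exact hT2 ((show 2 ∣ a by omega).trans ha)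
    rw [this, one_mul] at he
    have hadd := tT_add m
    rw [← he] at hadd
    nlinarith [h27, hle]
  refine ⟨⟨2 * k + 1, 2 * l + 1, a, qq m + 3 ^ (m + 1) + 1, by omega, by omega, ha3, by omega,
    ?_, ?_, ?_, ?_, ?_, hcop, ?_, ?_, ?_, ?_, ?_, ?_, ?_, ?_⟩, hk.symm, hl'.symm, rfl, rfl⟩
  · refine coprime_of_no_prime fun p hp hx hy => ?_
    exact (prime_factors_apart m hp (fun e => h2A (e ▸ hx))).1 ⟨hA hx, hB hy⟩
  · refine coprime_of_no_prime fun p hp hx hy => ?_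
    exact (prime_factors_apart m hp (fun e => h2A (e ▸ hx))).2.1 ⟨hA hx, hy.trans ha⟩
  · refine coprime_of_no_prime fun p hp hx hy => ?_
    exact (prime_factors_apart m hp (fun e => h2A (e ▸ hx))).2.1 ⟨hA hx, hy.trans hb⟩
  · refine coprime_of_no_prime fun p hp hx hy => ?_
    exact (prime_factors_apart m hp (fun e => h2B (e ▸ hx))).2.2 ⟨hB hx, hy.trans ha⟩
  · refine coprime_of_no_prime fun p hp hx hy => ?_
    exact (prime_factors_apart m hp (fun e => h2B (e ▸ hx))).2.2 ⟨hB hx, hy.trans hb⟩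
  all_goals rw [Nat.Prime.coprime_iff_not_dvd (by norm_num)]
  · exact h2A
  · exact h2B
  · exact fun h => hT2 (h.trans ha)
  · exact fun h => hT2 (h.trans hb)
  · exact fun h => hA3 (hA h)
  · exact fun h => hB3 (hB h)
  · exact fun h => hT3 (h.trans ha)
  · exact fun h => hT3 (h.trans hb)

/-- The set of element orders of `G × G × G`, given those of `G`. -/
theorem range_cube (P : Params) {G : Type*} [Group G] [Finite G]
    (h : ∀ d : ℕ, (∃ g : G, orderOf g = d) ↔ ∃ t ∈ tops, d ∣ P.val t) :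
    Set.range (orderOf : G × G × G → ℕ) = P.cube := by
  have hmem : ∀ u, u ∈ triples ↔ ∃ x ∈ tops, ∃ y ∈ tops, ∃ z ∈ tops, u = x.sup (y.sup z) := by
    intro u
    simp [triples, List.mem_flatMap, List.mem_map, eq_comm]
  ext d
  constructor
  · rintro ⟨⟨g1, g2, g3⟩, rfl⟩
    obtain ⟨x, hx, dx⟩ := (h _).1 ⟨g1, rfl⟩
    obtain ⟨y, hy, dy⟩ := (h _).1 ⟨g2, rfl⟩
    obtain ⟨z, hz, dz⟩ := (h _).1 ⟨g3, rfl⟩
    refine ⟨x.sup (y.sup z), (hmem _).2 ⟨x, hx, y, hy, z, hz, rfl⟩, ?_⟩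
    rw [Prod.orderOf, Prod.orderOf, ← P.lcm_val, ← P.lcm_val]
    exact lcm_dvd_lcm dx (lcm_dvd_lcm dy dz)
  · rintro ⟨u, hu, hd⟩
    obtain ⟨x, hx, y, hy, z, hz, rfl⟩ := (hmem u).1 hu
    obtain ⟨g1, h1⟩ := (h _).2 ⟨x, hx, dvd_refl (P.val x)⟩
    obtain ⟨g2, h2⟩ := (h _).2 ⟨y, hy, dvd_refl (P.val y)⟩
    obtain ⟨g3, h3⟩ := (h _).2 ⟨z, hz, dvd_refl (P.val z)⟩
    have e : orderOf (g1, g2, g3) = P.val (x.sup (y.sup z)) := by
      rw [Prod.orderOf, Prod.orderOf, h1, h2, h3, P.lcm_val, P.lcm_val]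
    exact ⟨(g1, g2, g3) ^ (orderOf (g1, g2, g3) / d),
      orderOf_pow_orderOf_div (orderOf_pos _).ne' (e ▸ hd)⟩

variable {K : Type*} [Field K] [CharP K 3] [Fintype K] {m : ℕ} [hF : Fact (Fintype.card K = 3 ^ (2 * m + 1))]

theorem exists_cube (hm : 1 ≤ m) :
    ∃ P : Params, Set.range (orderOf : G K m × G K m × G K m → ℕ) = P.cube := by
  obtain ⟨P, hA, hB, ha, hb⟩ := exists_params hm
  refine ⟨P, range_cube P fun d => (element_orders (K := K) hm d).trans ?_⟩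
  simp only [tops, List.mem_cons, List.not_mem_nil, or_false, exists_eq_or_imp, exists_eq_left, Params.val, pow_zero,
    pow_one, mul_one, one_mul, show 2 * 3 = 6 from rfl, show 3 ^ 2 = 9 from rfl, hA, hB, ha, hb]

end Cfsg.Agent.Lib.ReeCube
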