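import Mathlib

/-!
For coprime `n`, `v` a finite ring of characteristic `v` with an element `ζ`, `ζ ^ n = 1`, all whose
non-trivial powers move every non-zero element.
-/

set_option autoImplicit false

namespace Cfsg.Agent.Lib.ReeCube

open Polynomial

theorem cyclotomic_dvd_geom_sum {n s : ℕ} (hn : 0 < n) (hs : ¬ n ∣ s) :
    cyclotomic n ℤ ∣ ∑ j ∈ Finset.range n, X ^ (s * j) := by
  have hμ : IsPrimitiveRoot (Complex.exp (2 * Real.pi * Complex.I / n)) n :=
    Complex.isPrimitiveRoot_exp n hn.ne'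
  set μ := Complex.exp (2 * Real.pi * Complex.I / n)
  rw [cyclotomic_eq_minpoly hμ hn]
  refine minpoly.isIntegrallyClosed_dvd (hμ.isIntegral hn) ?_
  rw [map_sum]
  simp only [map_pow, aeval_X, pow_mul]
  have h1 : μ ^ s ≠ 1 := fun h => hs (hμ.dvd_of_pow_eq_one s h)
  rw [geom_sum_eq h1, ← pow_mul, mul_comm, pow_mul, hμ.pow_eq_one, one_pow, sub_self, zero_div]

/-- The module. -/
abbrev CR (n v : ℕ) : Type := AdjoinRoot (cyclotomic n (ZMod v))

/-- The root of unity. -/
noncomputable def cz (n v : ℕ) : CR n v := AdjoinRoot.root _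

variable {n v : ℕ}

theorem cr_finite (hv : 0 < v) : Finite (CR n v) := by
  have : NeZero v := ⟨hv.ne'⟩
  have : Module.Finite (ZMod v) (CR n v) := (cyclotomic.monic n (ZMod v)).finite_adjoinRoot
  exact Module.finite_of_finite (ZMod v)

theorem cr_geom (hn : 0 < n) {s : ℕ} (hs : ¬ n ∣ s) : ∑ j ∈ Finset.range n, (cz n v ^ s) ^ j = 0 := by
  obtain ⟨q, hq⟩ := cyclotomic_dvd_geom_sum hn hs
  have h := congrArg (fun P : ℤ[X] => AdjoinRoot.mk (cyclotomic n (ZMod v)) (P.map (Int.castRingHom _))) hq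
  simp only [Polynomial.map_mul, map_cyclotomic, map_mul, AdjoinRoot.mk_self, zero_mul, Polynomial.map_sum, map_sum,
    Polynomial.map_pow, map_X, map_pow, AdjoinRoot.mk_X] at h
  simpa [cz, ← pow_mul] using h

theorem cz_pow (n v : ℕ) : cz n v ^ n = 1 := by
  obtain ⟨q, hq⟩ := cyclotomic.dvd_X_pow_sub_one n (ZMod v)
  have h := congrArg (AdjoinRoot.mk (cyclotomic n (ZMod v))) hq
  simp only [map_sub, map_pow, map_one, AdjoinRoot.mk_X, map_mul, AdjoinRoot.mk_self, zero_mul, sub_eq_zero] at h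
  exact h

theorem cr_nsmul (x : CR n v) : v • x = 0 := by
  have h0 : (v : CR n v) = 0 := by
    rw [← map_natCast (algebraMap (ZMod v) (CR n v)), ZMod.natCast_self, map_zero]
  rw [nsmul_eq_mul, h0, zero_mul]

theorem cr_fpf (hn : 0 < n) (hcop : Nat.Coprime n v) {s : ℕ} (hs : ¬ n ∣ s) {x : CR n v}
    (hx : cz n v ^ s * x = x) : x = 0 := by
  have hj : ∀ j : ℕ, (cz n v ^ s) ^ j * x = x := by
    intro j
    induction j with
    | zero => simp
    | succ j ih => rw [pow_succ, mul_assoc, hx, ih]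
  have h1 : n • x = 0 := by
    have h := congrArg (· * x) (cr_geom (v := v) hn hs)
    simp only [Finset.sum_mul, hj, Finset.sum_const, Finset.card_range, zero_mul] at h
    exact h
  have h2 : addOrderOf x ∣ Nat.gcd n v :=
    Nat.dvd_gcd (addOrderOf_dvd_of_nsmul_eq_zero h1) (addOrderOf_dvd_of_nsmul_eq_zero (cr_nsmul x))
  rw [hcop] at h2
  exact AddMonoid.addOrderOf_eq_one_iff.1 (Nat.dvd_one.1 h2)

theorem cr_addOrderOf_one (hn : 0 < n) (hv : 2 ≤ v) : addOrderOf (1 : CR n v) = v := by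
  have : Fact (1 < v) := ⟨hv⟩
  refine Nat.dvd_antisymm (addOrderOf_dvd_of_nsmul_eq_zero (cr_nsmul 1)) ?_
  have h := addOrderOf_nsmul_eq_zero (1 : CR n v)
  rw [nsmul_eq_mul, mul_one, ← map_natCast (algebraMap (ZMod v) (CR n v))] at h
  have h' : ((addOrderOf (1 : CR n v) : ℕ) : ZMod v) = 0 := by
    by_contra hne
    rw [AdjoinRoot.algebraMap_eq, ← AdjoinRoot.mk_C, AdjoinRoot.mk_eq_zero] at h
    refine (cyclotomic.monic n (ZMod v)).not_dvd_of_degree_lt (C_ne_zero.2 hne) ?_ h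
    rw [degree_C hne, degree_cyclotomic]
    exact_mod_cast Nat.totient_pos.2 hn
  exact (ZMod.natCast_eq_zero_iff _ _).1 h'

end Cfsg.Agent.Lib.ReeCube
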