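import Cfsg.Agent.Lib.ReeCube.Modules
import Cfsg.Agent.Lib.ReeCube.Vec
import Cfsg.Agent.Lib.SpectrumExt.Semidirect

/-!
A solvable group of arbitrarily large order with the spectrum of the cube of a small Ree group.
-/

set_option autoImplicit false
set_option linter.unusedSectionVars false

namespace Cfsg.Agent.Lib.ReeCube

open Cfsg.Agent.Lib.SpectrumExt.Semidirect

/-- the functional vanishing on the `i`-th of the lines `(1,0)`, `(0,1)`, `(1,1)` -/
def lf {m : ℕ} (i : Fin 3) : ZMod m × ZMod m →+ ZMod m :=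
  ![AddMonoidHom.snd _ _, AddMonoidHom.fst _ _, AddMonoidHom.fst _ _ - AddMonoidHom.snd _ _] i

/-- the pattern of a vector -/
def pat {m : ℕ} (c : ZMod m × ZMod m) : Fin 5 :=
  if c = 0 then 0 else if lf 0 c = 0 then 1 else if lf 1 c = 0 then 2 else if lf 2 c = 0 then 3 else 4

theorem lf_iff {m : ℕ} (i : Fin 3) (c : ZMod m × ZMod m) : lf i c = 0 ↔ kills i (pat c) = true := by
  obtain ⟨x, y⟩ := c
  fin_cases i <;> by_cases h1 : y = 0 <;> by_cases h2 : x = 0 <;> by_cases h3 : x = y <;>
    simp_all [lf, pat, kills, sub_eq_zero]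

theorem addOrderOf_pair_dvd {m : ℕ} (c : ZMod m × ZMod m) : addOrderOf c ∣ m :=
  addOrderOf_dvd_of_nsmul_eq_zero (by ext <;> simp [nsmul_eq_mul, ZMod.natCast_self])

/-- a representative of each pattern -/
def repC (m : ℕ) (p : Fin 5) : ZMod m × ZMod m := ![0, (1, 0), (0, 1), (1, 1), 0] p

theorem pat_repC {m : ℕ} (hm : 2 ≤ m) (p : Fin 5) (hp : p ≠ 4) : pat (repC m p) = p := by
  have : Fact (1 < m) := ⟨hm⟩
  fin_cases p <;> simp_all [pat, lf, repC]

theorem addOrderOf_repC {m : ℕ} (hm : 2 ≤ m) (p : Fin 5) (hp : p ≠ 4) :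
    addOrderOf (repC m p) = if p = 0 then 1 else m := by
  have : Fact (1 < m) := ⟨hm⟩
  have h1 : addOrderOf (1 : ZMod m) = m := by simp [ZMod.addOrderOf_one]
  fin_cases p <;> simp_all [repC, Prod.addOrderOf]

variable (P : Params)

/-- The acting group, additively. -/
abbrev AC : Type := (ZMod P.A × ZMod P.A) × (ZMod P.B × ZMod P.B) × (ZMod 2 × ZMod 2)

/-- exponent `2AB` of the acting group -/
def nn : ℕ := P.A * (P.B * 2)

theorem nn_pos : 0 < nn P := by
  have := P.hA; have := P.hB
  unfold nn; positivity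

instance neZeroA : NeZero P.A := ⟨by have := P.hA; omega⟩
instance neZeroB : NeZero P.B := ⟨by have := P.hB; omega⟩
instance neZeroN : NeZero (nn P) := ⟨(nn_pos P).ne'⟩

/-- index type of the summands -/
abbrev Ix : Type := Fin comps.length

/-- module exponent of a summand -/
def vv (k : Ix) : ℕ := P.val (comps.get k).1

/-- the combined character -/
noncomputable def chi (k : Ix) : AC P →+ ZMod (nn P) :=
  let e : ZMod P.A × (ZMod P.B × ZMod 2) ≃+* ZMod (nn P) :=
    ((RingEquiv.refl (ZMod P.A)).prodCongr (ZMod.chineseRemainder P.c2B.symm).symm).trans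
      (ZMod.chineseRemainder (Nat.Coprime.mul_right P.cAB P.c2A.symm)).symm
  e.toAddEquiv.toAddMonoidHom.comp
    ((lf (comps.get k).2.1).prodMap ((lf (comps.get k).2.2.1).prodMap (lf (comps.get k).2.2.2)))

theorem chi_eq_zero (k : Ix) (c : AC P) : chi P k c = 0 ↔
    (kills (comps.get k).2.1 (pat c.1) && kills (comps.get k).2.2.1 (pat c.2.1) &&
      kills (comps.get k).2.2.2 (pat c.2.2)) = true := by
  simp only [Bool.and_eq_true, ← lf_iff, and_assoc]
  simp [chi, Prod.ext_iff]

theorem vv_cases : ∀ k : Ix, (comps.get k).1 ∈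
    ([⟨0, 2, 0, 0, 0, 0⟩, ⟨0, 0, 0, 0, 1, 0⟩, ⟨0, 0, 0, 0, 0, 1⟩, ⟨0, 1, 0, 0, 0, 0⟩] : List Vec) := by
  decide +kernel

theorem vv_two_le (k : Ix) : 2 ≤ vv P k := by
  have := P.ha; have := P.hb
  have h := vv_cases k
  simp only [List.mem_cons, List.not_mem_nil, or_false] at h
  rcases h with h | h | h | h <;> rw [vv, h] <;> simp [Params.val] <;> omega

theorem vv_cop (k : Ix) : Nat.Coprime (nn P) (vv P k) := by
  have h := vv_cases k
  simp only [List.mem_cons, List.not_mem_nil, or_false] at h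
  have c9 : ∀ x, Nat.Coprime 3 x → Nat.Coprime x (3 ^ 2) := fun x hx => (hx.pow_left 2).symm
  rcases h with h | h | h | h <;> rw [vv, h] <;> simp only [Params.val, nn, pow_zero, pow_one, one_mul, mul_one]
  · exact Nat.Coprime.mul_left (c9 _ P.c3A) (Nat.Coprime.mul_left (c9 _ P.c3B) (by decide))
  · exact Nat.Coprime.mul_left P.cAa (Nat.Coprime.mul_left P.cBa P.c2a)
  · exact Nat.Coprime.mul_left P.cAb (Nat.Coprime.mul_left P.cBb P.c2b)
  · exact Nat.Coprime.mul_left P.c3A.symm (Nat.Coprime.mul_left P.c3B.symm (by decide))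

/-- the module, with `N + 1` copies of each summand -/
abbrev UU (N : ℕ) : Type := (k : Ix) → Fin (N + 1) → CR (nn P) (vv P k)

theorem uu_finite (N : ℕ) : Finite (UU P N) := by
  have : ∀ k : Ix, Finite (CR (nn P) (vv P k)) := fun k => cr_finite (lt_of_lt_of_le two_pos (vv_two_le P k))
  infer_instance

/-- multiplication by the scalars -/
noncomputable def act (N : ℕ) : Multiplicative (AC P) →* AddMonoid.End (UU P N) where
  toFun c :=
    { toFun := fun u k i => cz (nn P) (vv P k) ^ (chi P k c.toAdd).val * u k i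
      map_zero' := by funext k i; simp
      map_add' := fun u w => by funext k i; simp [mul_add] }
  map_one' := by
    refine AddMonoidHom.ext fun u => ?_
    funext k i
    show cz (nn P) (vv P k) ^ (chi P k 0).val * u k i = u k i
    simp
  map_mul' c d := by
    refine AddMonoidHom.ext fun u => ?_
    funext k i
    show cz (nn P) (vv P k) ^ (chi P k (c.toAdd + d.toAdd)).val * u k i =
      cz (nn P) (vv P k) ^ (chi P k c.toAdd).val * (cz (nn P) (vv P k) ^ (chi P k d.toAdd).val * u k i)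
    rw [← mul_assoc, ← pow_add, map_add, ZMod.val_add, ← pow_mod_of_eq_one (cz_pow _ _)]
where
  pow_mod_of_eq_one {R : Type} [Monoid R] {x : R} {n e : ℕ} (h : x ^ n = 1) : x ^ e = x ^ (e % n) := by
    conv_lhs => rw [← Nat.div_add_mod e n, pow_add, pow_mul, h, one_pow, one_mul]

/-- the witness group -/
abbrev WG (N : ℕ) : Type := Ext (act P N)

theorem act_apply (N : ℕ) (c : Multiplicative (AC P)) (u : UU P N) (k : Ix) (i : Fin (N + 1)) :
    act P N c u k i = cz (nn P) (vv P k) ^ (chi P k c.toAdd).val * u k i := rfl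

theorem fixed_zero {N : ℕ} {c : Multiplicative (AC P)} {u : UU P N} (hu : act P N c u = u) (k : Ix)
    (hk : chi P k c.toAdd ≠ 0) (i : Fin (N + 1)) : u k i = 0 := by
  refine cr_fpf (nn_pos P) (vv_cop P k) (fun h => hk ?_) (congrFun (congrFun hu k) i)
  rw [← ZMod.val_eq_zero]
  exact Nat.eq_zero_of_dvd_of_lt h (ZMod.val_lt _)

theorem base_order (c : Multiplicative (AC P)) :
    orderOf c ∣ P.val (baseVec (pat c.toAdd.1) (pat c.toAdd.2.1) (pat c.toAdd.2.2)) := by
  obtain ⟨⟨r, s, e⟩, rfl⟩ := Multiplicative.ofAdd.surjective c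
  rw [orderOf_ofAdd_eq_addOrderOf, (Prod.addOrderOf _).trans (congrArg _ (Prod.addOrderOf (s, e)))]
  simp only [toAdd_ofAdd]
  have hz : ∀ {m : ℕ} (x : ZMod m × ZMod m), pat x = 0 → x = 0 := fun x hx => by
    unfold pat at hx
    split_ifs at hx
    · assumption
    all_goals simp at hx
  have hpow : ∀ {m : ℕ} (x : ZMod m × ZMod m), addOrderOf x ∣ m ^ (if pat x = 0 then 0 else 1) := fun x => by
    split_ifs with h
    · simp [hz x h]
    · simpa using addOrderOf_pair_dvd x
  refine Nat.lcm_dvd ((hpow r).trans ?_) (Nat.lcm_dvd ((hpow s).trans ?_) ((hpow e).trans ?_))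
  · exact ⟨2 ^ (if pat e = 0 then 0 else 1) * P.B ^ (if pat s = 0 then 0 else 1), by
      simp only [baseVec, Params.val, pow_zero]; ring⟩
  · exact ⟨2 ^ (if pat e = 0 then 0 else 1) * P.A ^ (if pat r = 0 then 0 else 1), by
      simp only [baseVec, Params.val, pow_zero]; ring⟩
  · exact ⟨P.A ^ (if pat r = 0 then 0 else 1) * P.B ^ (if pat s = 0 then 0 else 1), by
      simp only [baseVec, Params.val, pow_zero]; ring⟩

theorem mem_fix_le {p q r : Fin 5} {x : Vec × Fin 3 × Fin 3 × Fin 3} (hx : x ∈ comps)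
    (h : (kills x.2.1 p && kills x.2.2.1 q && kills x.2.2.2 r) = true) : x.1.le (fixVec p q r) = true := by
  have hmem : x.1 ∈ (comps.filter fun k => kills k.2.1 p && kills k.2.2.1 q && kills k.2.2.2 r).map Prod.fst :=
    List.mem_map.2 ⟨x, List.mem_filter.2 ⟨hx, h⟩, rfl⟩
  have key : ∀ (l : List Vec) (y : Vec), y ∈ l → y.le (l.foldr Vec.sup Vec.zero) = true := by
    intro l
    induction l with
    | nil => simp
    | cons z l ih =>
      intro y hy
      rcases List.mem_cons.1 hy with rfl | hy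
      · exact Vec.le_sup_left _ _
      · exact Vec.le_trans' (ih y hy) (Vec.le_sup_right z _)
  exact key _ _ hmem

theorem wg_upper (N : ℕ) (g : WG P N) : orderOf g ∈ P.cube := by
  obtain ⟨a, c⟩ := g
  obtain ⟨u, hu⟩ := Multiplicative.ofAdd.surjective a
  subst hu
  set p := pat c.toAdd.1
  set q := pat c.toAdd.2.1
  set r := pat c.toAdd.2.2
  obtain ⟨w, hw, hle⟩ := upper_check p q r
  refine ⟨w, hw, Nat.dvd_trans ?_ (P.val_mono hle)⟩
  set L := P.val (fixVec p q r)
  have hL : L • norm (act P N) c (orderOf c) u = 0 := by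
    funext k i
    show L • norm (act P N) c (orderOf c) u k i = 0
    by_cases hk : chi P k c.toAdd = 0
    · rw [chi_eq_zero] at hk
      obtain ⟨d, hd⟩ := P.val_mono (mem_fix_le (List.get_mem _ k) hk)
      rw [show L = vv P k * d from hd, mul_comm, mul_nsmul', cr_nsmul, nsmul_zero]
    · rw [fixed_zero P (fix_norm (act P N) u c) k hk i, nsmul_zero]
  have hg : (⟨Multiplicative.ofAdd u, c⟩ : WG P N) ^ (orderOf c * L) = 1 := by
    have hpow : (⟨Multiplicative.ofAdd u, c⟩ : WG P N) ^ orderOf c =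
        SemidirectProduct.inl (Multiplicative.ofAdd (norm (act P N) c (orderOf c) u)) := by
      obtain ⟨h1, h2⟩ := pow_left (act P N) u c (orderOf c)
      refine SemidirectProduct.ext ?_ ?_
      · rw [h1]; rfl
      · rw [h2, pow_orderOf_eq_one]; rfl
    rw [pow_mul, hpow, ← map_pow, ← ofAdd_nsmul, hL, ofAdd_zero, map_one]
  refine (orderOf_dvd_of_pow_eq_one hg).trans ?_
  rw [fullVec, ← P.lcm_val]
  have hcop : Nat.Coprime (P.val (baseVec p q r)) L := by
    have hfix : (fixVec p q r).t = 0 ∧ (fixVec p q r).A = 0 ∧ (fixVec p q r).B = 0 := fix_support p q r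
    unfold L Params.val baseVec
    simp only [hfix.1, hfix.2.1, hfix.2.2, pow_zero, mul_one, one_mul]
    refine Nat.Coprime.mul_left (Nat.Coprime.mul_left ?_ ?_) ?_ <;>
      refine Nat.Coprime.mul_right (Nat.Coprime.mul_right ?_ ?_) ?_ <;> apply Nat.Coprime.pow
    exacts [(by decide : Nat.Coprime 2 3), P.c2a, P.c2b, P.c3A.symm, P.cAa, P.cAb, P.c3B.symm, P.cBa, P.cBb]
  rw [hcop.lcm_eq_mul]
  exact mul_dvd_mul_right (base_order P c) _
where
  fix_support : ∀ p q r : Fin 5, (fixVec p q r).t = 0 ∧ (fixVec p q r).A = 0 ∧ (fixVec p q r).B = 0 := by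
    decide +kernel

theorem wg_lower (N : ℕ) {m : ℕ} (hm : m ∈ P.cube) : m ∈ Set.range (orderOf : WG P N → ℕ) := by
  classical
  have hfin := uu_finite P N
  obtain ⟨w, hw, hmw⟩ := hm
  obtain ⟨p, q, r, hp, hq, hr, hle⟩ := lower_check w hw
  have hA := P.hA; have hB := P.hB
  set c : Multiplicative (AC P) := Multiplicative.ofAdd (repC P.A p, repC P.B q, repC 2 r)
  set u : UU P N := fun k _ => if chi P k c.toAdd = 0 then 1 else 0
  have hfix : act P N c u = u := by
    funext k i
    rw [act_apply]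
    by_cases hk : chi P k c.toAdd = 0
    · rw [hk]; simp
    · simp [u, hk]
  set g1 : WG P N := SemidirectProduct.inl (Multiplicative.ofAdd u)
  set g2 : WG P N := SemidirectProduct.inr c
  have hcomm : Commute g1 g2 := by
    refine SemidirectProduct.ext ?_ ?_
    · simp only [g1, g2, SemidirectProduct.mul_left, SemidirectProduct.left_inl, SemidirectProduct.left_inr,
        SemidirectProduct.right_inl, SemidirectProduct.right_inr, map_one, mul_one, one_mul]
      exact (congrArg Multiplicative.ofAdd hfix).symm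
    · simp [g1, g2]
  have hpat : pat c.toAdd.1 = p ∧ pat c.toAdd.2.1 = q ∧ pat c.toAdd.2.2 = r :=
    ⟨pat_repC (by omega) p hp, pat_repC (by omega) q hq, pat_repC le_rfl r hr⟩
  have h1 : P.val (fixVec p q r) ∣ orderOf g1 := by
    rw [orderOf_injective _ SemidirectProduct.inl_injective, orderOf_ofAdd_eq_addOrderOf]
    have hk : ∀ k : Ix, chi P k c.toAdd = 0 → vv P k ∣ addOrderOf u := by
      intro k hk
      rw [← cr_addOrderOf_one (v := vv P k) (nn_pos P) (vv_two_le P k)]
      have := addOrderOf_map_dvd ((Pi.evalAddMonoidHom (fun _ : Fin (N + 1) => CR (nn P) (vv P k)) 0).comp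
        (Pi.evalAddMonoidHom (fun k : Ix => Fin (N + 1) → CR (nn P) (vv P k)) k)) u
      simpa [u, hk] using this
    have hfold : ∀ l : List Vec, (∀ y ∈ l, P.val y ∣ addOrderOf u) → P.val (l.foldr Vec.sup Vec.zero) ∣ addOrderOf u := by
      intro l
      induction l with
      | nil => intro; simp [Vec.zero, Params.val]
      | cons y l ih =>
        intro hy
        rw [List.foldr_cons, ← P.lcm_val]
        exact Nat.lcm_dvd (hy y (by simp)) (ih fun z hz => hy z (by simp [hz]))
    refine hfold _ ?_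
    intro y hy
    obtain ⟨x, hx, rfl⟩ := List.mem_map.1 hy
    obtain ⟨hx1, hx2⟩ := List.mem_filter.1 hx
    obtain ⟨k, rfl⟩ := List.get_of_mem hx1
    refine hk k ?_
    rw [chi_eq_zero, hpat.1, hpat.2.1, hpat.2.2]
    exact hx2
  have h2 : P.val (baseVec p q r) ∣ orderOf g2 := by
    rw [orderOf_injective _ SemidirectProduct.inr_injective, orderOf_ofAdd_eq_addOrderOf,
      (Prod.addOrderOf _).trans (congrArg _ (Prod.addOrderOf (repC P.B q, repC 2 r))), addOrderOf_repC (by omega) p hp, addOrderOf_repC (by omega) q hq, addOrderOf_repC le_rfl r hr]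
    unfold Params.val baseVec
    simp only [pow_zero, mul_one, one_mul]
    refine Nat.Coprime.mul_dvd_of_dvd_of_dvd ?_ (Nat.Coprime.mul_dvd_of_dvd_of_dvd ?_ ?_ ?_) ?_
    · simp only [Nat.coprime_mul_iff_left]
      exact ⟨Nat.Coprime.pow _ _ P.c2B, Nat.Coprime.pow _ _ P.cAB⟩
    · exact Nat.Coprime.pow _ _ P.c2A
    · refine Nat.dvd_trans ?_ ((Nat.dvd_lcm_right _ _).trans (Nat.dvd_lcm_right _ _))
      split_ifs <;> simp
    · refine Nat.dvd_trans ?_ (Nat.dvd_lcm_left _ _)
      split_ifs <;> simp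
    · refine Nat.dvd_trans ?_ ((Nat.dvd_lcm_left _ _).trans (Nat.dvd_lcm_right _ _))
      split_ifs <;> simp
  have hfinW : Finite (WG P N) := inferInstance
  have hcop : (orderOf g1).Coprime (orderOf g2) := by
    have d1 : orderOf g1 ∣ P.val ⟨0, 2, 0, 0, 1, 1⟩ := by
      rw [orderOf_injective _ SemidirectProduct.inl_injective, orderOf_ofAdd_eq_addOrderOf]
      refine addOrderOf_dvd_of_nsmul_eq_zero ?_
      funext k i
      obtain ⟨d, hd⟩ := P.val_mono (show (comps.get k).1.le ⟨0, 2, 0, 0, 1, 1⟩ = true from le_all k)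
      show P.val ⟨0, 2, 0, 0, 1, 1⟩ • u k i = 0
      rw [show P.val ⟨0, 2, 0, 0, 1, 1⟩ = vv P k * d from hd, mul_comm, mul_nsmul', cr_nsmul, nsmul_zero]
    have d2 : orderOf g2 ∣ P.val ⟨1, 0, 1, 1, 0, 0⟩ := by
      rw [orderOf_injective _ SemidirectProduct.inr_injective]
      exact (base_order P c).trans (P.val_mono (base_le _ _ _))
    refine Nat.Coprime.coprime_dvd_left d1 (Nat.Coprime.coprime_dvd_right d2 ?_)
    unfold Params.val
    simp only [pow_zero, pow_one, one_mul, mul_one]
    refine Nat.Coprime.mul_left (Nat.Coprime.mul_left (Nat.Coprime.pow_left 2 ?_) ?_) ?_ <;>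
      refine Nat.Coprime.mul_right (Nat.Coprime.mul_right ?_ ?_) ?_
    exacts [(by decide : Nat.Coprime 3 2), P.c3A, P.c3B, P.c2a.symm, P.cAa.symm, P.cBa.symm, P.c2b.symm, P.cAb.symm, P.cBb.symm]
  have hd : m ∣ orderOf (g1 * g2) := by
    rw [hcomm.orderOf_mul_eq_mul_orderOf_of_coprime hcop]
    refine hmw.trans ((P.val_mono hle).trans ?_)
    rw [fullVec, ← P.lcm_val]
    exact Nat.lcm_dvd (h2.mul_left _) (h1.mul_right _)
  obtain ⟨d, hd⟩ := hd
  have hd0 : 0 < d := Nat.pos_of_ne_zero fun h => by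
    have := orderOf_pos (g1 * g2); rw [hd, h, mul_zero] at this; omega
  exact ⟨(g1 * g2) ^ d, by rw [orderOf_pow, hd, Nat.gcd_eq_right (Dvd.intro_left m rfl), Nat.mul_div_cancel _ hd0]⟩
where
  le_all : ∀ k : Ix, (comps.get k).1.le ⟨0, 2, 0, 0, 1, 1⟩ = true := by decide +kernel
  base_le : ∀ p q r : Fin 5, (baseVec p q r).le ⟨1, 0, 1, 1, 0, 0⟩ = true := by decide +kernel

theorem wg_card (N : ℕ) : N < Nat.card (WG P N) := by
  have := uu_finite P N
  let k0 : Ix := ⟨0, by decide⟩
  let f : Fin (N + 1) → WG P N := fun j =>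
    SemidirectProduct.inl (Multiplicative.ofAdd fun k i => if i = j then 1 else 0)
  have hone : (1 : CR (nn P) (vv P k0)) ≠ 0 := fun h => by
    have h1 := cr_addOrderOf_one (v := vv P k0) (nn_pos P) (vv_two_le P k0)
    rw [h, addOrderOf_zero] at h1
    have := vv_two_le P k0
    omega
  have hf : Function.Injective f := by
    intro i j h
    have h' := congrFun (congrFun (Multiplicative.ofAdd.injective (SemidirectProduct.inl_injective h)) k0) i
    by_contra hij
    simp [hij, hone] at h'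
  have := Nat.card_le_card_of_injective f hf
  rw [Nat.card_fin] at this
  omega

/-- The witness. -/
theorem exists_witness (N : ℕ) : ∃ (H : Type) (_ : Group H) (_ : Fintype H),
    N < Fintype.card H ∧ Set.range (orderOf : H → ℕ) = P.cube := by
  have := uu_finite P N
  have := Fintype.ofFinite (WG P N)
  refine ⟨WG P N, inferInstance, inferInstance, ?_, ?_⟩
  · rw [← Nat.card_eq_fintype_card]; exact wg_card P N
  · ext m
    exact ⟨by rintro ⟨g, rfl⟩; exact wg_upper P N g, fun h => wg_lower P N h⟩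

end Cfsg.Agent.Lib.ReeCube
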